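import Cfsg.Agent.Mrg.Omega.IIa2.Entry
import Cfsg.Agent.Mrg.Omega.OpenD
import Cfsg.Agent.J2.ExtQuot
import Cfsg.Agent.Transfer.Extraspecial


/-!
# Leaf II.a, `q = 2`: the end

`Ent S z a` with `Ω₁(Z(O₂(C(z)))) = ⟨z⟩`: `O₂(C(z)) = F*(C(z))` is of symplectic type (`Ent.sympl`).
-/

set_option autoImplicit false

namespace Cfsg.Agent.Omega.IIa2

open Subgroup Cfsg Cfsg.Agent.ZN Cfsg.Agent.Omega.Frame Cfsg.Agent.Omega.Exits

universe u

section abs

variable {Q : Type*} [Group Q] [Finite Q] {z i : Q}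

/-- A 2-group with commutators and squares in `⟨z⟩`, and a cyclic centre of order 4. -/
theorem symplectic_of_four (hp : IsPGroup 2 Q) (hzz : z * z = 1) (hz : ∀ y : Q, y * z = z * y)
    (hi : ∀ y : Q, y * i = i * y) (hii : i * i = z)
    (hcomm : ∀ x y : Q, x * y * x⁻¹ * y⁻¹ = 1 ∨ x * y * x⁻¹ * y⁻¹ = z)
    (hsq : ∀ x : Q, x * x = 1 ∨ x * x = z)
    (hZ : ∀ d : Q, (∀ y, y * d = d * y) → d * d = 1 → d = 1 ∨ d = z) : IsOfSymplecticType Q := by
  refine ⟨hp, fun A hA hAc => ?_⟩
  have hAcomm : ∀ a ∈ A, ∀ b ∈ A, a * b = b * a := by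
    intro a ha b hb
    have := hAc.is_comm.comm (⟨a, ha⟩ : A) ⟨b, hb⟩
    exact congrArg Subtype.val this
  have hAZ : A ≤ center Q := by
    intro x hx
    rw [mem_center_iff]
    -- elements `u` with `u² = z` commute with `x`
    have h4 : ∀ u : Q, u * u = z → x * u = u * x := by
      intro u hu
      by_contra hne
      have hu4 : u * u * (u * u) = 1 := by rw [hu, hzz]
      have hc : ∀ y : Q, y * u = u * y ∨ y * u = u * y * (u * u) := by
        intro y
        rcases hcomm y u with h2 | h2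
        · left
          have h3 := mul_inv_eq_one.1 h2
          exact mul_inv_eq_iff_eq_mul.1 h3
        · right
          have h3 : y * u = (y * u * y⁻¹ * u⁻¹) * (u * y) := by group
          rw [h3, h2, hu]
          exact (hz (u * y)).symm
      let e : Q ≃* Q := MulEquiv.ofBijective (GH.C2Extra.tv u hu4 hc)
        (Finite.injective_iff_bijective.1 (GH.C2Extra.tv_tv u hu4 hc))
      have h1 : e x ∈ A := by
        have h2 := hA.fixed e
        have h3 : x ∈ A.comap e.toMonoidHom := by rw [h2]; exact hx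
        exact h3
      have h2 : e x = x * u := GH.C2Extra.tv_apply (hu := hu4) (hc := hc) hne
      rw [h2] at h1
      have h3 : u ∈ A := by
        have h4 := A.mul_mem (A.inv_mem hx) h1
        rwa [inv_mul_cancel_left] at h4
      exact hne (hAcomm x hx u h3)
    intro y
    rcases hsq y with hy | hy
    · have h1 : y * i * (y * i) = z := by
        calc y * i * (y * i) = y * (i * y) * i := by group
          _ = y * (y * i) * i := by rw [hi y]
          _ = (y * y) * (i * i) := by group
          _ = z := by rw [hy, hii, one_mul]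
      have h2 := h4 _ h1
      have h3 : y * x * i = x * y * i := by
        calc y * x * i = y * (x * i) := by group
          _ = y * (i * x) := by rw [hi x]
          _ = y * i * x := by group
          _ = x * (y * i) := h2.symm
          _ = x * y * i := by group
      exact mul_right_cancel h3
    · exact (h4 y hy).symm
  have hle : A ≤ zpowers i := by
    intro d hd
    have hdc := mem_center_iff.1 (hAZ hd)
    rcases hsq d with h1 | h1
    · rcases hZ d hdc h1 with h2 | h2
      · rw [h2]; exact one_mem _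
      · rw [h2, ← hii]; exact mul_mem (mem_zpowers i) (mem_zpowers i)
    · have h2 : d * i * (d * i) = 1 := by
        calc d * i * (d * i) = d * (i * d) * i := by group
          _ = d * (d * i) * i := by rw [hi d]
          _ = (d * d) * (i * i) := by group
          _ = 1 := by rw [h1, hii, hzz]
      have h3 : d * i ∈ zpowers i := by
        rcases hZ (d * i) (fun y => by rw [← mul_assoc, hdc y, mul_assoc, hi y, mul_assoc]) h2 with h3 | h3
        · rw [h3]; exact one_mem _
        · rw [h3, ← hii]; exact mul_mem (mem_zpowers i) (mem_zpowers i)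
      have h4 := mul_mem h3 (inv_mem (mem_zpowers i))
      rwa [mul_inv_cancel_right] at h4
  exact isCyclic_of_injective (Subgroup.inclusion hle) (Subgroup.inclusion_injective hle)

end abs

variable {G : Type u} [Group G]

namespace Ent

variable [Finite G] {S : Sylow 2 G} {z a : G}

theorem orderOf_z (h : Ent S z a) : orderOf z = 2 :=
  orderOf_eq_prime (by rw [pow_two]; exact h.cfg.zz) h.cfg.z1

/-- **`O₂(C(z))` is extraspecial, or of symplectic type with a centre of order 4.** -/
theorem extra_or (hG : Ctx G) (h : Ent S z a)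
    (hD : ∀ d, FFTwoA.Main.Dp Oc z d → d * d = 1 → d = 1 ∨ d = z) :
    (∃ n, 2 ≤ n ∧ Extra z n) ∨ IsOfSymplecticType ↥(pCore 2 ↥(centralizer ({z} : Set G))) := by
  have hf : Fact (Nat.Prime 2) := ⟨Nat.prime_two⟩
  have hc := h.cfg
  set C := centralizer ({z} : Set G) with hC
  have hmem : ∀ x : ↥(pCore 2 ↥C), ((x : ↥C) : G) ∈ Oc z := fun x => mem_map_of_mem C.subtype x.2
  have hlift : ∀ g ∈ Oc z, ∃ x : ↥(pCore 2 ↥C), ((x : ↥C) : G) = g := by
    rintro g ⟨y, hy, hyg⟩
    exact ⟨⟨y, hy⟩, hyg⟩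
  have hinj : ∀ x y : ↥(pCore 2 ↥C), ((x : ↥C) : G) = ((y : ↥C) : G) → x = y :=
    fun x y hxy => Subtype.ext (Subtype.ext hxy)
  have hP : IsPGroup 2 ↥(pCore 2 ↥C) := Lib.Cores.pCore_isPGroup 2
  obtain ⟨z', hz'⟩ := hlift z hc.zO
  obtain ⟨a', ha'⟩ := hlift a hc.aO
  obtain ⟨w, hw, hwa, -, -⟩ := hc.w0
  rw [MulAut.conj_apply, mul_inv_eq_iff_eq_mul] at hwa
  obtain ⟨w', hw'⟩ := hlift w hw.1
  have hZz : ∀ y : ↥(pCore 2 ↥C), y * z' = z' * y := fun y => hinj _ _ (by
    change ((y : ↥C) : G) * ((z' : ↥C) : G) = ((z' : ↥C) : G) * ((y : ↥C) : G)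
    rw [hz']
    exact hc.comm _ (hmem y))
  have hsq : ∀ x : ↥(pCore 2 ↥C), x * x = 1 ∨ x * x = z' := by
    intro x
    rcases hc.sq (hmem x) with k | k
    · exact Or.inl (hinj _ _ k)
    · exact Or.inr (hinj _ _ (k.trans hz'.symm))
  have hZ : ∀ d : ↥(pCore 2 ↥C), (∀ y, y * d = d * y) → d * d = 1 → d = 1 ∨ d = z' := by
    intro d hd hdd
    have k1 : FFTwoA.Main.Dp Oc z ((d : ↥C) : G) := by
      rw [hc.dp_iff]
      refine ⟨hmem d, fun q hq => ?_⟩
      obtain ⟨q', rfl⟩ := hlift q hq
      exact (congrArg (fun x : ↥(pCore 2 ↥C) => ((x : ↥C) : G)) (hd q')).symm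
    rcases hD _ k1 (congrArg (fun x : ↥(pCore 2 ↥C) => ((x : ↥C) : G)) hdd) with k | k
    · exact Or.inl (hinj _ _ k)
    · exact Or.inr (hinj _ _ (k.trans hz'.symm))
  have hzz' : z' * z' = 1 := hinj _ _ (by
    change ((z' : ↥C) : G) * ((z' : ↥C) : G) = 1
    rw [hz']; exact hc.zz)
  have hz1' : z' ≠ 1 := by
    intro k
    apply hc.z1
    rw [← hz', k]; rfl
  by_cases hi : ∃ i : ↥(pCore 2 ↥C), (∀ y, y * i = i * y) ∧ i * i = z'
  · obtain ⟨i, hi, hii⟩ := hi
    right
    refine symplectic_of_four hP hzz' hZz hi hii ?_ hsq hZ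
    intro x y
    rcases hc.comm_mem (hmem x) (hmem y) with k | k
    · exact Or.inl (hinj _ _ k)
    · exact Or.inr (hinj _ _ (k.trans hz'.symm))
  · left
    push Not at hi
    have hcen : ∀ d : ↥(pCore 2 ↥C), d ∈ center ↥(pCore 2 ↥C) ↔ d = 1 ∨ d = z' := by
      intro d
      rw [mem_center_iff]
      constructor
      · intro hd
        exact hZ d hd ((hsq d).resolve_right (hi d hd))
      · rintro (rfl | rfl)
        · intro y; simp
        · exact hZz
    have hE : IsExtraspecial 2 ↥(pCore 2 ↥C) := by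
      refine J2.ExtQuot.isExtraspecial_two hP ?_ ?_ ?_
      · rw [Nat.card_eq_two_iff]
        refine ⟨1, ⟨z', (hcen z').2 (Or.inr rfl)⟩, fun k => hz1' (congrArg Subtype.val k).symm, ?_⟩
        ext v
        simp only [Set.mem_insert_iff, Set.mem_singleton_iff, Set.mem_univ, iff_true]
        rcases (hcen v).1 v.2 with k | k
        · exact Or.inl (Subtype.ext k)
        · exact Or.inr (Subtype.ext k)
      · intro x
        rw [pow_two]
        exact (hcen _).2 (hsq x)
      · refine ⟨w', a', fun k => ?_⟩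
        have k1 : w * a = a * w := by
          rw [← hw', ← ha']
          exact congrArg (fun x : ↥(pCore 2 ↥C) => ((x : ↥C) : G)) k
        rw [hwa] at k1
        have : z * a = a := mul_right_cancel k1
        exact hc.z1 (by simpa using this)
    obtain ⟨n, hn, hcard⟩ := Transfer.Extraspecial.exists_card_eq Nat.prime_two hE
    refine ⟨n, ?_, ⟨h.orderOf_z, hE, hcard⟩⟩
    by_contra hlt
    have hn1 : n = 1 := by omega
    subst hn1
    exact LeafOne.leafOne G hG z ⟨h.orderOf_z, hE, hcard⟩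

/-- **`F*(C(z))` is of symplectic type.** -/
theorem sympl (hG : Ctx G) (h : Ent S z a)
    (hD : ∀ d, FFTwoA.Main.Dp Oc z d → d * d = 1 → d = 1 ∨ d = z) :
    IsOfSymplecticType ↥(generalizedFittingSubgroup ↥(centralizer ({z} : Set G))) := by
  rcases h.extra_or hG hD with ⟨n, hn, hx⟩ | hQ
  · exact hx.hQ hG.char2 hn
  · rw [genFitting_centralizer hG.char2 h.orderOf_z]
    exact hQ

end Ent

end Cfsg.Agent.Omega.IIa2
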